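import Groth.Agent.H14.BGa.Torsor
import Groth.Agent.Lib.Fibred.EquivOver
import Groth.Agent.Lib.AlgStack.Diag
import Mathlib.RingTheory.Flat.EquationalCriterion

/-!
The torsor with class `1/π` does not extend over the node.
-/

set_option autoImplicit false
set_option backward.isDefEq.respectTransparency false
set_option backward.isDefEq.respectTransparency.types false

noncomputable section

universe u

open CategoryTheory CategoryTheory.Limits MonoidalCategory CartesianMonoidalCategory MonObj GrpObj AlgebraicGeometry Opposite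

namespace Groth.Agent.H14.BGa

open ThetaS (sFn tFn STSch STRing stAction Gm)
open Groth.Agent.H14.Extend (fn open₂ RegPair)
open Groth.Agent.Lib.QuotSt (trivObj)

theorem regPair_map_of_flat {A B : Type u} [CommRing A] [CommRing B] {φ : A →+* B} (hφ : φ.Flat) {a b : A}
    (h : RegPair a b) : RegPair (φ a) (φ b) := by
  let _ : Algebra A B := φ.toAlgebra
  have : Module.Flat A B := hφ
  have reg : ∀ {c : A}, (∀ x, c * x = 0 → x = 0) → ∀ x : B, φ c * x = 0 → x = 0 := fun {c} hc x hx => by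
    obtain ⟨n, m, y, hy, hm⟩ := Module.Flat.iff_forall_isTrivialRelation.1 ‹_› (f := ![c]) (x := ![x])
      (by simpa [Algebra.smul_def, RingHom.algebraMap_toAlgebra] using hx)
    have hy0 := hy 0
    simp only [Matrix.cons_val_zero] at hy0
    rw [hy0]
    refine Finset.sum_eq_zero fun j _ => ?_
    rw [hc (m 0 j) (by simpa using hm j), zero_smul]
  refine ⟨reg h.left, reg h.right, fun x ⟨z, hz⟩ => ?_⟩
  obtain ⟨n, m, y, hy, hm⟩ := Module.Flat.iff_forall_isTrivialRelation.1 ‹_› (f := ![b, a]) (x := ![x, -z])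
    (by simp [Fin.sum_univ_two, Algebra.smul_def, RingHom.algebraMap_toAlgebra, hz])
  have hy0 := hy 0
  simp only [Matrix.cons_val_zero] at hy0
  rw [hy0]
  refine Finset.dvd_sum fun j _ => ?_
  have hj := hm j
  simp only [Fin.sum_univ_two, Matrix.cons_val_zero, Matrix.cons_val_one] at hj
  obtain ⟨c, hc⟩ := h.dvd (m 0 j) ⟨-(m 1 j), by linear_combination hj⟩
  rw [Algebra.smul_def, hc]
  exact Dvd.dvd.mul_right (by rw [map_mul]; exact dvd_mul_right _ _) _

variable (R : Type u) [CommRing R] [IsDomain R] [IsDiscreteValuationRing R] {π : R} {S : Scheme.{u}}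

local instance : Flat (Gm R).hom := Extend.flat_Gm
local instance : LocallyOfFinitePresentation (Gm R).hom := Extend.lfp_Gm

theorem exists_node (hπ : Irreducible π) :
    ∃ n : ↥(STSch R π).left, n ∉ (STSch R π).left.basicOpen (fn (sFn R π)) ∧
      n ∉ (STSch R π).left.basicOpen (fn (tFn R π)) := by
  let K₀ := R ⧸ IsLocalRing.maximalIdeal R
  have h0 : (0 : K₀) * 0 = algebraMap R K₀ π := by
    rw [mul_zero, Ideal.Quotient.algebraMap_eq, eq_comm, Ideal.Quotient.eq_zero_iff_mem]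
    exact hπ.not_isUnit
  let ψ := ThetaS.stPt (0 : K₀) 0 h0
  obtain ⟨z⟩ : Nonempty ↥(CoactBr.sp R K₀).left := inferInstanceAs (Nonempty (PrimeSpectrum K₀))
  refine ⟨(CoactBr.pt ψ).left z, fun hn => ?_, fun hn => ?_⟩ <;>
  · have hn' := (mem_basicOpen_map (CoactBr.pt ψ).left z _).1 hn
    rw [Extend.appTop_pt] at hn'
    simp [ψ, fn] at hn'

theorem exists_section_of_iso {G : Over S} [GrpObj G] {A B : AlgSt.QuotObj Scheme.fppfPrecoverage G (AlgSt.trivAction G)}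
    (θ : A ≅ B) (p : A.base ⟶ A.P) (hp : p ≫ A.π = 𝟙 _) : ∃ q : B.base ⟶ B.P, q ≫ B.π = 𝟙 _ := by
  refine ⟨θ.inv.base ≫ p ≫ θ.hom.top, ?_⟩
  rw [Category.assoc, Category.assoc, θ.hom.cart.w, reassoc_of% hp, ← AlgSt.QuotObj.comp_base, θ.inv_hom_id]
  rfl

theorem missesNode_trivObj {T : Over (Spec (CommRingCat.of R))} (x : T ⟶ STSch R π)
    (hx : x.left ⁻¹ᵁ open₂ (sFn R π) (tFn R π) = ⊤) :
    ThetaS.MissesNode (trivObj Scheme.fppfPrecoverage (stAction R π) x) := by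
  have hU : (stAction R π).act.left ⁻¹ᵁ open₂ (sFn R π) (tFn R π) =
      (snd (Gm R) (STSch R π)).left ⁻¹ᵁ open₂ (sFn R π) (tFn R π) := by
    rw [open₂, Scheme.Hom.preimage_sup, Scheme.Hom.preimage_sup]
    exact congrArg₂ (· ⊔ ·) (act_preimage_st R π true) (act_preimage_st R π false)
  have h := Extend.lands_trivObj hU x hx
  unfold Extend.Lands at h
  unfold ThetaS.MissesNode
  rw [Scheme.Hom.preimage_sup, Scheme.preimage_basicOpen_top, Scheme.preimage_basicOpen_top] at h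
  exact h

variable {R} in
/-- The class `1/π` is not a difference of functions regular at the node. -/
theorem false_of_lift (hπ : Irreducible π) {h : Spec (CommRingCat.of R) ⟶ S}
    (F : ThetaS.ST Scheme.fppfPrecoverage R π h ⥤ᵇ AlgSt.BG Scheme.fppfPrecoverage (Red.Ga S))
    (α : BasedFunctor.comp (ThetaS.stIncl Scheme.fppfPrecoverage R π h) F ≅ functor h) : False := by
  let η₀ : STObj R π := trivObj Scheme.fppfPrecoverage (stAction R π) (𝟙 (STSch R π))
  let Q := F.obj η₀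
  have eQ : Q.base = (Over.map h).obj (STSch R π) := F.w_obj η₀
  obtain ⟨n₀, hs₀, ht₀⟩ := exists_node R hπ
  obtain ⟨cov, hcov, hsec⟩ := Q.loc
  obtain ⟨Y, f, hf, w₀, hw₀⟩ : ∃ (Y : Scheme.{u}) (f : Y ⟶ Q.base.left), cov f ∧
      ∃ w₀, (f ≫ (eqToHom eQ).left) w₀ = n₀ := by
    obtain ⟨J, Z, z, rfl⟩ := cov.exists_eq_ofArrows
    obtain ⟨i, w₀, hw₀⟩ := ((Scheme.ofArrows_mem_precoverage_iff (@Flat ⊓ @LocallyOfFinitePresentation)).1 hcov).1 ((eqToHom eQ.symm).left n₀)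
    refine ⟨Z i, z i, ⟨i⟩, w₀, ?_⟩
    rw [Scheme.Hom.comp_apply]
    erw [hw₀]
    rw [← Scheme.Hom.comp_apply, ← Over.comp_left, eqToHom_trans, eqToHom_refl]
    rfl
  obtain ⟨σ, hσ⟩ := hsec f hf
  change σ ≫ Q.π.left = f at hσ
  have : Flat f := (hcov.2 hf).1
  obtain ⟨V, hV, hwV⟩ : ∃ V : Y.Opens, IsAffineOpen V ∧ w₀ ∈ V := by
    obtain ⟨_, ⟨V, hV, rfl⟩, hwV, -⟩ :=
      Y.isBasis_affineOpens.exists_subset_of_mem_open (Set.mem_univ w₀) isOpen_univ
    exact ⟨V, hV, hwV⟩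
  have : IsAffine V.toScheme := hV
  have : IsAffine (STSch R π).left := inferInstanceAs (IsAffine (Spec _))
  let g : V.toScheme ⟶ (STSch R π).left := V.ι ≫ f ≫ (eqToHom eQ).left
  let a : Γ(V.toScheme, ⊤) := g.appTop (fn (sFn R π))
  let b : Γ(V.toScheme, ⊤) := g.appTop (fn (tFn R π))
  have hreg : RegPair a b :=
    regPair_map_of_flat (HasRingHomProperty.appTop (P := @Flat) g inferInstance)
      ((Extend.regPair_st R π hπ.ne_zero).map_ringEquiv
        (Scheme.ΓSpecIso (CommRingCat.of (STRing R π))).symm.commRingCatIsoToRingEquiv)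
  let V₀ : V.toScheme.Opens := V.toScheme.basicOpen a ⊔ V.toScheme.basicOpen b
  let T₀ : Over (Spec (CommRingCat.of R)) := Over.mk (V₀.ι ≫ g ≫ (STSch R π).hom)
  let x₀ : T₀ ⟶ STSch R π := Over.homMk (V₀.ι ≫ g) (Category.assoc _ _ _)
  have hx₀ : x₀.left ⁻¹ᵁ open₂ (sFn R π) (tFn R π) = ⊤ := by
    change (V₀.ι ≫ g) ⁻¹ᵁ _ = ⊤
    rw [Scheme.Hom.comp_preimage, open₂, Scheme.Hom.preimage_sup g, Scheme.preimage_basicOpen_top g,
      Scheme.preimage_basicOpen_top g]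
    exact V₀.ι_preimage_self
  let υ : (ThetaS.stPunc Scheme.fppfPrecoverage R π h).obj :=
    ⟨trivObj Scheme.fppfPrecoverage (stAction R π) x₀, missesNode_trivObj R x₀ hx₀⟩
  let m : υ.obj ⟶ η₀ := Extend.trivMap x₀ (Category.comp_id _)
  let mu := F.map m
  have eυ : (F.obj υ.obj).base = (Over.map h).obj T₀ := F.w_obj υ.obj
  have hμ : mu.base = eqToHom eυ ≫ (Over.map h).map x₀ ≫ eqToHom eQ.symm := CategoryTheory.Functor.congr_hom F.w m
  let l₀ : (Over.map h).obj T₀ ⟶ Q.P := Over.homMk (V₀.ι ≫ V.ι ≫ σ) (by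
    change (V₀.ι ≫ V.ι ≫ σ) ≫ Q.P.hom = (V₀.ι ≫ g ≫ (STSch R π).hom) ≫ h
    rw [← Over.w Q.π, Category.assoc, Category.assoc, reassoc_of% hσ, ← Over.w (eqToHom eQ)]
    simp only [g, Category.assoc]
    rfl)
  have hl₀ : l₀ ≫ Q.π = (Over.map h).map x₀ ≫ eqToHom eQ.symm := by
    rw [← cancel_mono (eqToHom eQ), Category.assoc, Category.assoc, eqToHom_trans, eqToHom_refl,
      Category.comp_id]
    refine Over.OverMorphism.ext ?_
    change (V₀.ι ≫ V.ι ≫ σ) ≫ Q.π.left ≫ (eqToHom eQ).left = V₀.ι ≫ V.ι ≫ f ≫ (eqToHom eQ).left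
    simp only [Category.assoc, reassoc_of% hσ]
  let p : (F.obj υ.obj).base ⟶ (F.obj υ.obj).P := mu.cart.lift (eqToHom eυ ≫ l₀) (𝟙 _) (by
    rw [Category.id_comp, hμ, Category.assoc, hl₀])
  have hp : p ≫ (F.obj υ.obj).π = 𝟙 _ := mu.cart.lift_snd _ _ _
  have θ : F.obj υ.obj ≅ (functor h).obj υ := Lib.Fibred.EquivOver.appIso α υ
  have eobj : (functor h).obj υ = obj h υ := rfl
  obtain ⟨q, hq⟩ : ∃ q : baseS υ.obj h ⟶ Tot υ.obj h, q ≫ totπ υ.obj h = 𝟙 _ :=
    exists_section_of_iso (θ ≪≫ eqToIso eobj) p hp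
  have hg := good q
  rw [hq] at hg
  let u : Γ(T₀.left, ⊤) := uOf (W := baseS υ.obj h) q
  let w : Γ(T₀.left, ⊤) := wOf (W := baseS υ.obj h) q
  let a₀ : Γ(T₀.left, ⊤) := V₀.ι.appTop a
  let b₀ : Γ(T₀.left, ⊤) := V₀.ι.appTop b
  let P : Γ(T₀.left, ⊤) := piFn υ.obj
  have hP : P = a₀ * b₀ := by
    change (V₀.ι ≫ g ≫ (STSch R π).hom).appTop (gfn π) = V₀.ι.appTop a * V₀.ι.appTop b
    have e : (STSch R π).hom.appTop (gfn π) = fn (sFn R π) * fn (tFn R π) := by
      refine Eq.trans ?_ (map_mul (Scheme.ΓSpecIso (CommRingCat.of (STRing R π))).inv.hom (sFn R π) (tFn R π))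
      rw [ThetaS.sFn_mul_tFn]
      exact appTop_gfn (algebraMap R (STRing R π)) π
    rw [Scheme.Hom.comp_appTop, CommRingCat.comp_apply, Scheme.Hom.comp_appTop, CommRingCat.comp_apply, e,
      map_mul, map_mul]
  have hsS : sideS υ.obj = T₀.left.basicOpen a₀ := by
    refine (side_trivObj (act_preimage_st R π true) x₀).trans ?_
    change (V₀.ι ≫ g) ⁻¹ᵁ _ = _
    rw [Scheme.preimage_basicOpen_top]
    rfl
  have hsT : sideT υ.obj = T₀.left.basicOpen b₀ := by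
    refine (side_trivObj (act_preimage_st R π false) x₀).trans ?_
    change (V₀.ι ≫ g) ⁻¹ᵁ _ = _
    rw [Scheme.preimage_basicOpen_top]
    rfl
  have rel : P * w = u * (u + 1) := hg.rel
  have cov' : ∀ z : ↥T₀.left, (z ∈ T₀.left.basicOpen a₀ ∧ z ∈ T₀.left.basicOpen b₀) ∨
      (z ∈ T₀.left.basicOpen a₀ ∧ z ∈ T₀.left.basicOpen (u + 1)) ∨
      (z ∈ T₀.left.basicOpen b₀ ∧ z ∈ T₀.left.basicOpen u) := fun z => by
    rcases hg.cov z with h1 | ⟨h1, h2⟩ | ⟨h1, h2⟩
    · have h1' : z ∈ T₀.left.basicOpen P := h1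
      rw [hP, Scheme.basicOpen_mul] at h1'
      exact Or.inl h1'
    · exact Or.inr (Or.inl ⟨hsS ▸ h1, h2⟩)
    · exact Or.inr (Or.inr ⟨hsT ▸ h1, h2⟩)
  rw [hP] at rel
  obtain ⟨f', hf', -⟩ := existsUnique_solution (p := b₀) (c := a₀ * (u + 1)) (d := u) (e := a₀ * a₀ * w)
    (by linear_combination a₀ * rel) (fun z _ => by
      rcases cov' z with ⟨-, h2⟩ | ⟨h1, h2⟩ | ⟨h1, -⟩
      · exact Or.inl h2
      · exact Or.inr (by rw [Scheme.basicOpen_mul]; exact ⟨h1, h2⟩)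
      · exact Or.inl h1)
  obtain ⟨e', he', -⟩ := existsUnique_solution (p := a₀) (c := b₀ * u) (d := u + 1) (e := b₀ * b₀ * w)
    (by linear_combination b₀ * rel) (fun z _ => by
      rcases cov' z with ⟨h1, -⟩ | ⟨h1, -⟩ | ⟨h1, h2⟩
      · exact Or.inl h1
      · exact Or.inl h1
      · exact Or.inr (by rw [Scheme.basicOpen_mul]; exact ⟨h1, h2⟩))
  have hbij : Function.Bijective V₀.ι.appTop := Extend.bijective_ι_appTop hreg rfl
  obtain ⟨F₁, hF₁⟩ := hbij.2 f'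
  obtain ⟨E₁, hE₁⟩ := hbij.2 e'
  have key : a * E₁ - b * F₁ = 1 := by
    apply hbij.1
    rw [map_sub, map_mul, map_mul, map_one, hF₁, hE₁]
    linear_combination he'.1 - hf'.1
  have hv : ∀ r : STRing R π, n₀ ∉ (STSch R π).left.basicOpen (fn r) →
      V.toScheme.evaluation ⊤ (⟨w₀, hwV⟩ : V) trivial (g.appTop (fn r)) = 0 := fun r hr => by
    refine evaluation_eq_zero fun hz => hr ?_
    rw [← hw₀]
    exact (mem_basicOpen_map g (⟨w₀, hwV⟩ : V) _).2 hz
  have h1 := congrArg (V.toScheme.evaluation ⊤ (⟨w₀, hwV⟩ : V) trivial) key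
  rw [map_sub, map_mul, map_mul, map_one, hv _ hs₀, hv _ ht₀, zero_mul, zero_mul, sub_zero] at h1
  exact zero_ne_one h1

end Groth.Agent.H14.BGa
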