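import Groth.Prelude.Def_ThetaS
import Mathlib.Topology.Sheaves.CommRingCat
import Mathlib.AlgebraicGeometry.ResidueField

/-!
The affine scheme `π w = u (u + 1)` and the differences of two of its points.
-/

set_option autoImplicit false
set_option backward.isDefEq.respectTransparency false
set_option backward.isDefEq.respectTransparency.types false

noncomputable section

universe u

open CategoryTheory CategoryTheory.Limits AlgebraicGeometry Opposite

namespace Groth.Agent.H14.BGa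

variable {W : Scheme.{u}}

/-- The restriction of a global function. -/
abbrev res (U : W.Opens) : Γ(W, ⊤) →+* Γ(W, U) := (W.presheaf.map (homOfLE (le_top : U ≤ ⊤)).op).hom

theorem res_res {U V : W.Opens} (e : V ≤ U) (x : Γ(W, ⊤)) :
    W.presheaf.map (homOfLE e).op (res U x) = res V x := by
  change W.presheaf.map (homOfLE e).op (W.presheaf.map (homOfLE le_top).op x) = W.presheaf.map (homOfLE le_top).op x
  rw [← CommRingCat.comp_apply, ← Functor.map_comp]
  rfl

theorem isUnit_res {U : W.Opens} {f : Γ(W, ⊤)} (e : U ≤ W.basicOpen f) : IsUnit (res U f) := by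
  have h : IsUnit (W.presheaf.map (homOfLE (le_top : W.basicOpen f ≤ ⊤)).op f) :=
    RingedSpace.isUnit_res_basicOpen _ f
  rw [← res_res e]
  exact h.map _

theorem res_ext {U V : W.Opens} (h : ⊤ ≤ U ⊔ V) {x y : Γ(W, ⊤)} (h₁ : res U x = res U y)
    (h₂ : res V x = res V y) : x = y :=
  W.sheaf.eq_of_locally_eq₂ (homOfLE le_top) (homOfLE le_top) h x y h₁ h₂

theorem exists_glue {U V : W.Opens} (h : ⊤ ≤ U ⊔ V) (a : Γ(W, U)) (b : Γ(W, V))
    (e : W.presheaf.map (homOfLE (inf_le_left : U ⊓ V ≤ U)).op a =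
      W.presheaf.map (homOfLE (inf_le_right : U ⊓ V ≤ V)).op b) :
    ∃ g : Γ(W, ⊤), res U g = a ∧ res V g = b := by
  let x := (W.sheaf.objSupIsoProdEqLocus U V).inv ⟨(a, b), e⟩
  refine ⟨W.sheaf.1.map (homOfLE h).op x, ?_, ?_⟩
  · refine Eq.trans ?_ (TopCat.Sheaf.objSupIsoProdEqLocus_inv_fst W.sheaf U V ⟨(a, b), e⟩)
    change (W.sheaf.1.map _ ≫ W.sheaf.1.map _) x = _
    rw [← Functor.map_comp]
    rfl
  · refine Eq.trans ?_ (TopCat.Sheaf.objSupIsoProdEqLocus_inv_snd W.sheaf U V ⟨(a, b), e⟩)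
    change (W.sheaf.1.map _ ≫ W.sheaf.1.map _) x = _
    rw [← Functor.map_comp]
    rfl

theorem res_mul_eq_of {U : W.Opens} {q r a b g : Γ(W, ⊤)} (hU : U ≤ W.basicOpen q)
    (hg : res U (q * g) = res U a) (h : q * b = r * a) : res U (r * g) = res U b := by
  refine (isUnit_res hU).mul_left_cancel (a := res U q) ?_
  rw [← map_mul, ← map_mul, h, show q * (r * g) = r * (q * g) by ring, map_mul, map_mul _ r, hg]

/-- A system `p g = d, c g = e` with comaximal `p, c` and `p e = c d` has a unique solution. -/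
theorem existsUnique_solution {p c d e : Γ(W, ⊤)} (h : p * e = c * d)
    (hcov : ⊤ ≤ W.basicOpen p ⊔ W.basicOpen c) : ∃! g : Γ(W, ⊤), p * g = d ∧ c * g = e := by
  obtain ⟨up, hup⟩ := isUnit_res (le_refl (W.basicOpen p))
  obtain ⟨uc, huc⟩ := isUnit_res (le_refl (W.basicOpen c))
  let a : Γ(W, W.basicOpen p) := (↑up⁻¹ : Γ(W, W.basicOpen p)) * res _ d
  let b : Γ(W, W.basicOpen c) := (↑uc⁻¹ : Γ(W, W.basicOpen c)) * res _ e
  have ha : res _ p * a = res _ d := by rw [← hup]; exact Units.mul_inv_cancel_left _ _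
  have hb : res _ c * b = res _ e := by rw [← huc]; exact Units.mul_inv_cancel_left _ _
  let O := W.basicOpen p ⊓ W.basicOpen c
  obtain ⟨g, hg₁, hg₂⟩ := exists_glue hcov a b (by
    refine (isUnit_res (U := O) (f := p) inf_le_left).mul_left_cancel ?_
    refine (isUnit_res (U := O) (f := c) inf_le_right).mul_left_cancel ?_
    have h₁ := congrArg (W.presheaf.map (homOfLE (inf_le_left : O ≤ _)).op) ha
    have h₂ := congrArg (W.presheaf.map (homOfLE (inf_le_right : O ≤ _)).op) hb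
    rw [map_mul, res_res, res_res] at h₁ h₂
    rw [h₁, mul_left_comm, h₂, ← map_mul, ← map_mul, h])
  have hp₁ : res (W.basicOpen p) (p * g) = res _ d := by rw [map_mul, hg₁, ha]
  have hc₂ : res (W.basicOpen c) (c * g) = res _ e := by rw [map_mul, hg₂, hb]
  refine ⟨g, ⟨res_ext hcov hp₁ (res_mul_eq_of le_rfl hc₂ h.symm),
    res_ext hcov (res_mul_eq_of le_rfl hp₁ h) hc₂⟩, fun g' hg' => ?_⟩
  refine res_ext hcov ((isUnit_res le_rfl).mul_left_cancel (a := res _ p) ?_)
    ((isUnit_res le_rfl).mul_left_cancel (a := res _ c) ?_)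
  · rw [← map_mul, hg'.1, ← map_mul, hp₁]
  · rw [← map_mul, hg'.2, ← map_mul, hc₂]

/-- Where a function vanishes. -/
theorem mem_basicOpen_iff {f : Γ(W, ⊤)} {z : ↥W} : z ∈ W.basicOpen f ↔ W.evaluation ⊤ z trivial f ≠ 0 :=
  (Scheme.evaluation_ne_zero_iff_mem_basicOpen W (U := ⊤) z trivial f).symm

variable (R : Type u) [CommRing R] (π : R)

/-- The ring `R[u, w]/(π w - u (u + 1))`. -/
abbrev ERing : Type u :=
  MvPolynomial (Fin 2) R ⧸ Ideal.span {(MvPolynomial.C π * MvPolynomial.X 1 -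
    MvPolynomial.X 0 * (MvPolynomial.X 0 + 1) : MvPolynomial (Fin 2) R)}

/-- The scheme `π w = u (u + 1)`. -/
abbrev ESch : Scheme.{u} := Spec (CommRingCat.of (ERing R π))

/-- The structure map. -/
abbrev eStr : ESch R π ⟶ Spec (CommRingCat.of R) := Spec.map (CommRingCat.ofHom (algebraMap R (ERing R π)))

/-- The global function of a ring element. -/
abbrev gfn {A : Type u} [CommRing A] (a : A) : Γ(Spec (CommRingCat.of A), ⊤) := (Scheme.ΓSpecIso (CommRingCat.of A)).inv a

/-- The coordinate `u`. -/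
abbrev eU : Γ(ESch R π, ⊤) := gfn (Ideal.Quotient.mk _ (MvPolynomial.X 0) : ERing R π)

/-- The coordinate `w`. -/
abbrev eW : Γ(ESch R π, ⊤) := gfn (Ideal.Quotient.mk _ (MvPolynomial.X 1) : ERing R π)

theorem appTop_gfn {A B : Type u} [CommRing A] [CommRing B] (φ : A →+* B) (a : A) :
    (Spec.map (CommRingCat.ofHom φ)).appTop (gfn a) = gfn (φ a) :=
  (ConcreteCategory.congr_hom (Scheme.ΓSpecIso_inv_naturality (CommRingCat.ofHom φ)) a).symm

theorem eStr_gfn (r : R) : (eStr R π).appTop (gfn r) =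
    gfn (Ideal.Quotient.mk _ (MvPolynomial.C r) : ERing R π) := by
  rw [appTop_gfn]
  rfl

variable {R π}

theorem e_rel : (eStr R π).appTop (gfn π) * eW R π = eU R π * (eU R π + 1) := by
  rw [eStr_gfn]
  simp only [gfn]
  rw [← map_one (Scheme.ΓSpecIso (CommRingCat.of (ERing R π))).inv.hom, ← map_add, ← map_mul, ← map_mul]
  rw [← map_one (Ideal.Quotient.mk (Ideal.span {(MvPolynomial.C π * MvPolynomial.X 1 -
    MvPolynomial.X 0 * (MvPolynomial.X 0 + 1) : MvPolynomial (Fin 2) R)})), ← map_add, ← map_mul, ← map_mul]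
  exact congrArg _ ((Ideal.Quotient.mk_eq_mk_iff_sub_mem _ _).2 (Ideal.mem_span_singleton_self _))

/-- The point with given coordinates. -/
theorem exists_point (ρ : W ⟶ Spec (CommRingCat.of R)) (u w : Γ(W, ⊤))
    (h : ρ.appTop (gfn π) * w = u * (u + 1)) :
    ∃ f : W ⟶ ESch R π, f ≫ eStr R π = ρ ∧ f.appTop (eU R π) = u ∧ f.appTop (eW R π) = w := by
  let ρ' : R →+* Γ(W, ⊤) := ρ.appTop.hom.comp (Scheme.ΓSpecIso (CommRingCat.of R)).inv.hom
  let ψ₀ := MvPolynomial.eval₂Hom ρ' ![u, w]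
  let ψ : ERing R π →+* Γ(W, ⊤) := Ideal.Quotient.lift _ ψ₀ (fun a ha => by
    obtain ⟨b, rfl⟩ := Ideal.mem_span_singleton'.1 ha
    simp only [ψ₀, map_mul, map_sub, map_add, map_one, MvPolynomial.eval₂Hom_C, MvPolynomial.eval₂Hom_X',
      Matrix.cons_val_zero, Matrix.cons_val_one]
    rw [show ρ' π * w = u * (u + 1) from h, sub_self, mul_zero])
  let f : W ⟶ ESch R π := W.toSpecΓ ≫ Spec.map (CommRingCat.ofHom ψ)
  have hf : ∀ a, f.appTop (gfn a) = ψ a := fun a => by
    change W.toSpecΓ.appTop ((Spec.map (CommRingCat.ofHom ψ)).appTop (gfn a)) = ψ a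
    rw [appTop_gfn, Scheme.toSpecΓ_appTop]
    exact Iso.inv_hom_id_apply _ _
  refine ⟨f, ext_of_isAffine (CommRingCat.hom_ext (RingHom.ext fun x => ?_)), ?_, ?_⟩
  · obtain ⟨r, rfl⟩ : ∃ r, gfn r = x :=
      ⟨(Scheme.ΓSpecIso (CommRingCat.of R)).hom x, Iso.hom_inv_id_apply _ _⟩
    rw [Scheme.Hom.comp_appTop]
    change f.appTop ((eStr R π).appTop (gfn r)) = _
    rw [eStr_gfn, hf]
    exact (Ideal.Quotient.lift_mk _ _ _).trans (MvPolynomial.eval₂Hom_C _ _ _)
  · rw [hf]
    exact (Ideal.Quotient.lift_mk _ _ _).trans ((MvPolynomial.eval₂Hom_X' _ _ _).trans (by simp))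
  · rw [hf]
    exact (Ideal.Quotient.lift_mk _ _ _).trans ((MvPolynomial.eval₂Hom_X' _ _ _).trans (by simp))

theorem point_ext {f f' : W ⟶ ESch R π} (h : f ≫ eStr R π = f' ≫ eStr R π)
    (hu : f.appTop (eU R π) = f'.appTop (eU R π)) (hw : f.appTop (eW R π) = f'.appTop (eW R π)) : f = f' := by
  refine ext_of_isAffine ?_
  rw [← cancel_epi (Scheme.ΓSpecIso (CommRingCat.of (ERing R π))).inv]
  refine CommRingCat.hom_ext (Ideal.Quotient.ringHom_ext ?_)
  refine MvPolynomial.ringHom_ext (fun r => ?_) (fun i => ?_)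
  · have := congrArg (fun m : W ⟶ Spec (CommRingCat.of R) => m.appTop (gfn r)) h
    simp only [Scheme.Hom.comp_appTop, CommRingCat.comp_apply, eStr_gfn] at this
    exact this
  · fin_cases i
    · exact hu
    · exact hw

end Groth.Agent.H14.BGa
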