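import Groth.Agent.H14.Extend.GmAtlas
import Groth.Agent.Lib.QuotSt.Atlas

/-!
The open images in the base of a torsor of the non-vanishing locus of a semi-invariant function.
-/

set_option autoImplicit false
set_option backward.isDefEq.respectTransparency false
set_option backward.isDefEq.respectTransparency.types false

noncomputable section

universe u

open CategoryTheory CategoryTheory.Limits MonoidalCategory CartesianMonoidalCategory MonObj GrpObj AlgebraicGeometry Opposite
open scoped TensorProduct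

namespace Groth.Agent.H14.BGa

open ThetaS (Lau Gm zPow sFn tFn)
open CoactBr (sp pt)
open Groth.Agent.H14.Extend (fn prodPt)
open Groth.Agent.Lib.QuotSt (trivObj)
open AlgSt (QuotObj leftMul)

local instance (R : Type u) [CommRing R] : (algSpec (CommRingCat.of R)).Braided := braidedAlgSpec

variable {S : Scheme.{u}} {G X : Over S} [GrpObj G] {aX : AlgGrp.Action G X}
  [Flat G.hom] [LocallyOfFinitePresentation G.hom]

local notation "K" => Scheme.fppfPrecoverage

theorem isOpenMap_π (A : QuotObj K G aX) : IsOpenMap A.π.left := by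
  have : Flat A.π.left :=
    Lib.QuotSt.property_π (P := @Flat) Scheme.fppfPrecoverage_le_fpqcPrecoverage A ‹_›
  have : LocallyOfFinitePresentation A.π.left :=
    Lib.QuotSt.property_π (P := @LocallyOfFinitePresentation) Scheme.fppfPrecoverage_le_fpqcPrecoverage A ‹_›
  exact A.π.left.isOpenMap

theorem surjective_π (A : QuotObj K G aX) : Function.Surjective A.π.left :=
  (Lib.QuotSt.surjective_π Scheme.fppfPrecoverage_le_fpqcPrecoverage A).surj

/-- The image of the part of the torsor lying over an open. -/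
def side (U : X.left.Opens) (A : QuotObj K G aX) : A.base.left.Opens :=
  ⟨A.π.left '' (A.φ.left ⁻¹ᵁ U), isOpenMap_π A _ (A.φ.left ⁻¹ᵁ U).isOpen⟩

theorem preimage_side {U : X.left.Opens} (hU : aX.act.left ⁻¹ᵁ U = (snd G X).left ⁻¹ᵁ U)
    (A : QuotObj K G aX) : A.π.left ⁻¹ᵁ side U A = A.φ.left ⁻¹ᵁ U := by
  ext p
  constructor
  · rintro ⟨q, hq, hqp⟩
    obtain ⟨r, hr₁, hr₂⟩ := Scheme.exists_preimage_of_isPullback (A.cart.map (Over.forget S)) p q hqp.symm
    change A.act.act.left r = p at hr₁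
    change (snd G A.P).left r = q at hr₂
    have h1 : (G ◁ A.φ).left r ∈ (snd G X).left ⁻¹ᵁ U := by
      change (snd G X).left ((G ◁ A.φ).left r) ∈ U
      rw [← Scheme.Hom.comp_apply, ← Over.comp_left, whiskerLeft_snd, Over.comp_left, Scheme.Hom.comp_apply,
        hr₂]
      exact hq
    rw [← hU] at h1
    change A.φ.left p ∈ U
    rw [← hr₁, ← Scheme.Hom.comp_apply, ← Over.comp_left, A.eqv, Over.comp_left, Scheme.Hom.comp_apply]
    exact h1
  · exact fun hp => ⟨p, hp, rfl⟩

theorem eq_side {U : X.left.Opens} (hU : aX.act.left ⁻¹ᵁ U = (snd G X).left ⁻¹ᵁ U)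
    (A : QuotObj K G aX) {V : A.base.left.Opens} (h : A.π.left ⁻¹ᵁ V = A.φ.left ⁻¹ᵁ U) : side U A = V := by
  rw [← preimage_side hU A] at h
  exact TopologicalSpace.Opens.ext (Set.preimage_injective.2 (surjective_π A) (congrArg SetLike.coe h)).symm

theorem side_hom {U : X.left.Opens} (hU : aX.act.left ⁻¹ᵁ U = (snd G X).left ⁻¹ᵁ U)
    {A B : QuotObj K G aX} (m : A ⟶ B) : side U A = m.base.left ⁻¹ᵁ side U B := by
  refine eq_side hU A ?_
  rw [← Scheme.Hom.comp_preimage, ← Over.comp_left, ← m.cart.w, Over.comp_left, Scheme.Hom.comp_preimage,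
    preimage_side hU, ← Scheme.Hom.comp_preimage, ← Over.comp_left, m.wφ]

theorem side_trivObj {U : X.left.Opens} (hU : aX.act.left ⁻¹ᵁ U = (snd G X).left ⁻¹ᵁ U)
    {T : Over S} (x : T ⟶ X) : side U (trivObj K aX x) = x.left ⁻¹ᵁ U := by
  refine eq_side hU _ ?_
  change (snd G T).left ⁻¹ᵁ (x.left ⁻¹ᵁ U) = ((G ◁ x) ≫ aX.act).left ⁻¹ᵁ U
  rw [Over.comp_left, Scheme.Hom.comp_preimage, hU, ← Scheme.Hom.comp_preimage, ← Scheme.Hom.comp_preimage,
    ← Over.comp_left, ← Over.comp_left, whiskerLeft_snd]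

section Node

variable (R : Type u) [CommRing R] [IsNoetherianRing R] (π : R)

theorem act_preimage {A : Type u} [CommRing A] [Algebra R A] (a : AlgGrp.Action (Gm R) (sp R A))
    (φ : A →ₐ[R] A ⊗[R] Lau R) (hφ : prodPt R A ≫ a.act = pt φ) (x : A) {u : A ⊗[R] Lau R} (hu : IsUnit u)
    (hx : φ x = u * x ⊗ₜ[R] 1) :
    a.act.left ⁻¹ᵁ (sp R A).left.basicOpen (fn x) = (snd (Gm R) (sp R A)).left ⁻¹ᵁ (sp R A).left.basicOpen (fn x) := by
  have : IsIso (prodPt R A).left := inferInstanceAs (IsIso ((Over.forget _).map (prodPt R A)))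
  have inj : ∀ V W : (Gm R ⊗ sp R A).left.Opens,
      (prodPt R A).left ⁻¹ᵁ V = (prodPt R A).left ⁻¹ᵁ W → V = W := fun V W e =>
    TopologicalSpace.Opens.ext (Set.preimage_injective.2 (prodPt R A).left.surjective
      (congrArg SetLike.coe e))
  refine inj _ _ ?_
  have key : ∀ (c : Gm R ⊗ sp R A ⟶ sp R A) (ψ : A →ₐ[R] A ⊗[R] Lau R), prodPt R A ≫ c = pt ψ →
      (prodPt R A).left ⁻¹ᵁ (c.left ⁻¹ᵁ (sp R A).left.basicOpen (fn x)) =
        (sp R (A ⊗[R] Lau R)).left.basicOpen (fn (ψ x)) := fun c ψ hc => by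
    rw [← Scheme.Hom.comp_preimage, ← Over.comp_left, hc, Scheme.preimage_basicOpen_top, Extend.appTop_pt]
  erw [key _ _ hφ, key _ _ (lift_snd _ _ : prodPt R A ≫ snd _ _ = pt Algebra.TensorProduct.includeLeft), hx]
  have hu' : IsUnit (fn (R := R) u) := hu.map _
  rw [fn, map_mul, Scheme.basicOpen_mul, Scheme.basicOpen_of_isUnit _ hu', top_inf_eq]
  rfl

open ThetaS in
/-- The two branches are invariant. -/
theorem act_preimage_st (i : Bool) :
    (stAction R π).act.left ⁻¹ᵁ (STSch R π).left.basicOpen (fn (cond i (sFn R π) (tFn R π))) =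
      (snd (Gm R) (STSch R π)).left ⁻¹ᵁ (STSch R π).left.basicOpen (fn (cond i (sFn R π) (tFn R π))) := by
  letI : CommRing (STRing R π ⊗[R] Lau R) := Algebra.TensorProduct.instCommRing
  have hab : (sFn R π ⊗ₜ[R] (1 : Lau R) : STRing R π ⊗[R] Lau R) * (tFn R π ⊗ₜ[R] (1 : Lau R) : STRing R π ⊗[R] Lau R) =
      algebraMap R (STRing R π ⊗[R] Lau R) π := by
    rw [Algebra.TensorProduct.tmul_mul_tmul, _root_.one_mul, sFn_mul_tFn, Algebra.TensorProduct.algebraMap_apply]
  let lam : Lau R →ₐ[R] STRing R π ⊗[R] Lau R := Algebra.TensorProduct.includeRight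
  have hφ := stAction_pt lam _ _ hab
  have e : (Algebra.TensorProduct.includeLeft : STRing R π →ₐ[R] STRing R π ⊗[R] Lau R) = stPt _ _ hab :=
    stRing_algHom_ext (by simp) (by simp)
  rw [← e] at hφ
  cases i
  · exact act_preimage R _ _ hφ (tFn R π) ((Extend.isUnit_zPow (-1)).map lam) (stPt_tFn _ _ _)
  · exact act_preimage R _ _ hφ (sFn R π) ((Extend.isUnit_zPow 1).map lam) (stPt_sFn _ _ _)

end Node

end Groth.Agent.H14.BGa
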