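import Groth.Agent.H14.BGa.Side
import Groth.Agent.H14.BGa.Fns
import Groth.Agent.Lib.RedPts.Ga
import Mathlib.Tactic.LinearCombination

/-!
The torsor of the additive group on the punctured two-branched stack with class `1/π`.
-/

set_option autoImplicit false
set_option backward.isDefEq.respectTransparency false
set_option backward.isDefEq.respectTransparency.types false

noncomputable section

universe u

open CategoryTheory CategoryTheory.Limits MonoidalCategory CartesianMonoidalCategory MonObj GrpObj AlgebraicGeometry Opposite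

namespace Groth.Agent.H14.BGa

open ThetaS (sFn tFn STSch stAction Gm)
open Groth.Agent.H14.Extend (fn)
open Groth.Agent.Lib.RedPts

theorem mem_basicOpen_map {X Y : Scheme.{u}} (f : X ⟶ Y) (z : ↥X) (r : Γ(Y, ⊤)) :
    f z ∈ Y.basicOpen r ↔ z ∈ X.basicOpen (f.appTop r) := by
  rw [← Scheme.preimage_basicOpen_top]; rfl

theorem evaluation_eq_zero {W : Scheme.{u}} {z : ↥W} {p : Γ(W, ⊤)} (hz : z ∉ W.basicOpen p) :
    W.evaluation ⊤ z trivial p = 0 :=
  not_not.1 fun hne => hz (mem_basicOpen_iff.2 hne)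

theorem evaluation_add_mul {W : Scheme.{u}} {z : ↥W} {f p g : Γ(W, ⊤)} (hz : z ∉ W.basicOpen p) :
    W.evaluation ⊤ z trivial (f + p * g) = W.evaluation ⊤ z trivial f := by
  rw [mem_basicOpen_iff, not_not] at hz
  rw [map_add, map_mul, hz, zero_mul, add_zero]

theorem mem_basicOpen_add_mul {W : Scheme.{u}} {z : ↥W} {f p g : Γ(W, ⊤)} (hz : z ∉ W.basicOpen p) :
    z ∈ W.basicOpen (f + p * g) ↔ z ∈ W.basicOpen f := by
  rw [mem_basicOpen_iff, mem_basicOpen_iff, evaluation_add_mul hz]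

variable {R : Type u} [CommRing R] [IsNoetherianRing R] {π : R} {S : Scheme.{u}}

local instance : Flat (Gm R).hom := Extend.flat_Gm
local instance : LocallyOfFinitePresentation (Gm R).hom := Extend.lfp_Gm

/-- The objects of the two-branched stack. -/
abbrev STObj (R : Type u) [CommRing R] (π : R) := AlgSt.QuotObj Scheme.fppfPrecoverage (Gm R) (stAction R π)

variable (τ τ' : STObj R π)

/-- The first branch. -/
abbrev sideS : τ.base.left.Opens := side ((STSch R π).left.basicOpen (fn (sFn R π))) τ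

/-- The second branch. -/
abbrev sideT : τ.base.left.Opens := side ((STSch R π).left.basicOpen (fn (tFn R π))) τ

/-- The function `π` on the base. -/
abbrev piFn : Γ(τ.base.left, ⊤) := τ.base.hom.appTop (gfn π)

theorem sideS_hom {τ τ' : STObj R π} (m : τ' ⟶ τ) : sideS τ' = m.base.left ⁻¹ᵁ sideS τ :=
  side_hom (act_preimage_st R π true) m

theorem sideT_hom {τ τ' : STObj R π} (m : τ' ⟶ τ) : sideT τ' = m.base.left ⁻¹ᵁ sideT τ :=
  side_hom (act_preimage_st R π false) m

theorem piFn_hom {τ τ' : STObj R π} (m : τ' ⟶ τ) : piFn τ' = m.base.left.appTop (piFn τ) := by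
  change τ'.base.hom.appTop (gfn π) = m.base.left.appTop (τ.base.hom.appTop (gfn π))
  rw [← Over.w m.base, Scheme.Hom.comp_appTop]
  rfl

theorem preimage_sideS : τ.π.left ⁻¹ᵁ sideS τ = τ.φ.left ⁻¹ᵁ (STSch R π).left.basicOpen (fn (sFn R π)) :=
  preimage_side (act_preimage_st R π true) τ

theorem preimage_sideT : τ.π.left ⁻¹ᵁ sideT τ = τ.φ.left ⁻¹ᵁ (STSch R π).left.basicOpen (fn (tFn R π)) :=
  preimage_side (act_preimage_st R π false) τ

theorem side_inf : sideS τ ⊓ sideT τ ≤ τ.base.left.basicOpen (piFn τ) := by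
  intro x hx
  obtain ⟨y, rfl⟩ := surjective_π τ x
  have h1 : y ∈ τ.π.left ⁻¹ᵁ sideS τ ⊓ τ.π.left ⁻¹ᵁ sideT τ := hx
  change y ∈ τ.π.left ⁻¹ᵁ τ.base.left.basicOpen (piFn τ)
  rw [preimage_sideS, preimage_sideT] at h1
  erw [← Scheme.Hom.preimage_inf, ← Scheme.basicOpen_mul, ← map_mul, ThetaS.sFn_mul_tFn] at h1
  have e : (Scheme.ΓSpecIso (CommRingCat.of (ThetaS.STRing R π))).inv (algebraMap R (ThetaS.STRing R π) π) =
      (STSch R π).hom.appTop (gfn π) :=
    (appTop_gfn (algebraMap R (ThetaS.STRing R π)) π).symm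
  erw [e, Scheme.preimage_basicOpen_top, ← CommRingCat.comp_apply, ← Scheme.Hom.comp_appTop, Over.w τ.φ] at h1
  erw [Scheme.preimage_basicOpen_top, ← CommRingCat.comp_apply, ← Scheme.Hom.comp_appTop, Over.w τ.π]
  exact h1

theorem side_sup (hτ : ThetaS.MissesNode τ) : sideS τ ⊔ sideT τ = ⊤ := by
  refine top_le_iff.1 fun x _ => ?_
  obtain ⟨y, rfl⟩ := surjective_π τ x
  change y ∈ τ.π.left ⁻¹ᵁ (sideS τ ⊔ sideT τ)
  rw [Scheme.Hom.preimage_sup, preimage_sideS, preimage_sideT]
  erw [Scheme.preimage_basicOpen_top, Scheme.preimage_basicOpen_top]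
  erw [hτ]
  trivial

/-- The ambient scheme. -/
abbrev Amb : Scheme.{u} := pullback τ.base.hom (eStr R π)

/-- The projection to the base. -/
abbrev prT : Amb τ ⟶ τ.base.left := pullback.fst _ _

/-- The coordinate `u` on the ambient scheme. -/
abbrev ambU : Γ(Amb τ, ⊤) := (pullback.snd τ.base.hom (eStr R π)).appTop (eU R π)

/-- The conditions on a point of the torsor. -/
structure Good {W : Scheme.{u}} (t : W ⟶ τ.base.left) (u w : Γ(W, ⊤)) : Prop where
  rel : t.appTop (piFn τ) * w = u * (u + 1)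
  cov : ∀ z : ↥W, z ∈ W.basicOpen (t.appTop (piFn τ)) ∨ (t z ∈ sideS τ ∧ z ∈ W.basicOpen (u + 1)) ∨
    (t z ∈ sideT τ ∧ z ∈ W.basicOpen u)

/-- The open of the torsor. -/
def totOpen : (Amb τ).Opens :=
  (Amb τ).basicOpen ((prT τ).appTop (piFn τ)) ⊔ (prT τ ⁻¹ᵁ sideS τ ⊓ (Amb τ).basicOpen (ambU τ + 1)) ⊔
    (prT τ ⁻¹ᵁ sideT τ ⊓ (Amb τ).basicOpen (ambU τ))

variable (h : Spec (CommRingCat.of R) ⟶ S)

/-- The total space of the torsor. -/
def Tot : Over S := Over.mk ((totOpen τ).ι ≫ prT τ ≫ τ.base.hom ≫ h)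

/-- The base over `S`. -/
abbrev baseS : Over S := (Over.map h).obj τ.base

/-- The projection. -/
def totπ : Tot τ h ⟶ baseS τ h := Over.homMk ((totOpen τ).ι ≫ prT τ) (by simp [Tot])

/-- The map to the affine scheme. -/
def totE : (Tot τ h).left ⟶ ESch R π := (totOpen τ).ι ≫ pullback.snd _ _

variable {τ h}

/-- The coordinate `u` of a point. -/
def uOf {W : Over S} (q : W ⟶ Tot τ h) : Γ(W.left, ⊤) := (q.left ≫ totE τ h).appTop (eU R π)

/-- The coordinate `w` of a point. -/
def wOf {W : Over S} (q : W ⟶ Tot τ h) : Γ(W.left, ⊤) := (q.left ≫ totE τ h).appTop (eW R π)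

/-- The value of `π` at a point. -/
def pOf {W : Over S} (q : W ⟶ Tot τ h) : Γ(W.left, ⊤) := (q ≫ totπ τ h).left.appTop (piFn τ)

theorem uOf_comp {V W : Over S} (f : V ⟶ W) (q : W ⟶ Tot τ h) : uOf (f ≫ q) = f.left.appTop (uOf q) := by
  simp [uOf]

theorem wOf_comp {V W : Over S} (f : V ⟶ W) (q : W ⟶ Tot τ h) : wOf (f ≫ q) = f.left.appTop (wOf q) := by
  simp [wOf]

theorem pOf_comp {V W : Over S} (f : V ⟶ W) (q : W ⟶ Tot τ h) : pOf (f ≫ q) = f.left.appTop (pOf q) := by
  simp [pOf]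

theorem tot_ext {W : Over S} {q q' : W ⟶ Tot τ h} (ht : q ≫ totπ τ h = q' ≫ totπ τ h) (hu : uOf q = uOf q')
    (hw : wOf q = wOf q') : q = q' := by
  refine Over.OverMorphism.ext ((cancel_mono (totOpen τ).ι).1 ?_)
  have ht' := congrArg CommaMorphism.left ht
  simp only [totπ, Over.comp_left, Over.homMk_left] at ht'
  refine pullback.hom_ext (by simpa using ht') (point_ext ?_ hu hw)
  have h' := congrArg (· ≫ τ.base.hom) ht'
  simpa [totE, pullback.condition] using h'

theorem good {W : Over S} (q : W ⟶ Tot τ h) : Good τ (q ≫ totπ τ h).left (uOf q) (wOf q) := by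
  have e : (q.left ≫ totE τ h) ≫ eStr R π = (q ≫ totπ τ h).left ≫ τ.base.hom := by
    simp [totE, totπ, pullback.condition]
  refine ⟨?_, fun z => ?_⟩
  · have e' := congrArg (fun m : W.left ⟶ Spec (CommRingCat.of R) => m.appTop (gfn π)) e
    simp only [Scheme.Hom.comp_appTop, CommRingCat.comp_apply] at e'
    have h1 := congrArg (q.left ≫ totE τ h).appTop (e_rel (R := R) (π := π))
    rw [map_mul, map_mul, map_add, map_one] at h1
    simp only [Scheme.Hom.comp_appTop, CommRingCat.comp_apply] at h1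
    rw [e'] at h1
    simpa [uOf, wOf] using h1
  · have hz : (q.left ≫ (totOpen τ).ι) z ∈ totOpen τ := (q.left z).2
    rcases hz with (h1 | ⟨h1, h2⟩) | ⟨h1, h2⟩
    · left
      replace h1 := (mem_basicOpen_map (q.left ≫ (totOpen τ).ι) z _).1 h1
      simpa [totπ] using h1
    · right; left
      refine ⟨by simpa [totπ] using h1, ?_⟩
      replace h2 := (mem_basicOpen_map (q.left ≫ (totOpen τ).ι) z _).1 h2
      simpa [uOf, totE] using h2
    · right; right
      refine ⟨by simpa [totπ] using h1, ?_⟩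
      replace h2 := (mem_basicOpen_map (q.left ≫ (totOpen τ).ι) z _).1 h2
      simpa [uOf, totE] using h2

theorem rel {W : Over S} (q : W ⟶ Tot τ h) : pOf q * wOf q = uOf q * (uOf q + 1) := (good q).rel

theorem exists_mk {W : Over S} (t : W ⟶ baseS τ h) (u w : Γ(W.left, ⊤)) (hg : Good τ t.left u w) :
    ∃ q : W ⟶ Tot τ h, q ≫ totπ τ h = t ∧ uOf q = u ∧ wOf q = w := by
  obtain ⟨f, hf, hfu, hfw⟩ := exists_point (π := π) (t.left ≫ τ.base.hom) u w (by
    rw [Scheme.Hom.comp_appTop]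
    exact hg.rel)
  let a : W.left ⟶ Amb τ := pullback.lift t.left f hf.symm
  have ha : ∀ z, a z ∈ totOpen τ := fun z => by
    simp only [totOpen, TopologicalSpace.Opens.mem_sup, TopologicalSpace.Opens.mem_inf]
    have h1 : prT τ (a z) = t.left z := by
      rw [← Scheme.Hom.comp_apply, pullback.lift_fst]
      rfl
    rcases hg.cov z with h2 | ⟨h2, h3⟩ | ⟨h2, h3⟩
    · left; left
      refine (mem_basicOpen_map a z _).2 ?_
      rw [← CommRingCat.comp_apply, ← Scheme.Hom.comp_appTop, pullback.lift_fst]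
      exact h2
    · left; right
      refine ⟨show prT τ (a z) ∈ _ from h1 ▸ h2, ?_⟩
      refine (mem_basicOpen_map a z _).2 ?_
      rw [map_add, map_one, ambU, ← CommRingCat.comp_apply,
        ← Scheme.Hom.comp_appTop, pullback.lift_snd, hfu]
      exact h3
    · right
      refine ⟨show prT τ (a z) ∈ _ from h1 ▸ h2, ?_⟩
      refine (mem_basicOpen_map a z _).2 ?_
      rw [ambU, ← CommRingCat.comp_apply,
        ← Scheme.Hom.comp_appTop, pullback.lift_snd, hfu]
      exact h3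
  have hr : Set.range a ⊆ Set.range (totOpen τ).ι := by
    rw [Scheme.Opens.range_ι]
    rintro _ ⟨z, rfl⟩
    exact ha z
  let l : W.left ⟶ (totOpen τ).toScheme := IsOpenImmersion.lift (totOpen τ).ι a hr
  have hl : l ≫ (totOpen τ).ι = a := IsOpenImmersion.lift_fac _ _ _
  refine ⟨Over.homMk l (by
    change l ≫ (totOpen τ).ι ≫ prT τ ≫ τ.base.hom ≫ h = W.hom
    rw [reassoc_of% hl, pullback.lift_fst_assoc]
    exact Over.w t), Over.OverMorphism.ext ?_, ?_, ?_⟩
  · change l ≫ (totOpen τ).ι ≫ prT τ = t.left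
    rw [reassoc_of% hl, pullback.lift_fst]
  · change (l ≫ (totOpen τ).ι ≫ pullback.snd _ _).appTop _ = u
    rw [reassoc_of% hl, pullback.lift_snd, hfu]
  · change (l ≫ (totOpen τ).ι ≫ pullback.snd _ _).appTop _ = w
    rw [reassoc_of% hl, pullback.lift_snd, hfw]

/-- Translating a good point. -/
theorem Good.translate {W : Scheme.{u}} {t : W ⟶ τ.base.left} {u w : Γ(W, ⊤)} (hg : Good τ t u w)
    (g : Γ(W, ⊤)) :
    Good τ t (u + t.appTop (piFn τ) * g) (w + g * (2 * u + 1) + t.appTop (piFn τ) * g ^ 2) := by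
  refine ⟨by linear_combination hg.rel, fun z => ?_⟩
  by_cases hz : z ∈ W.basicOpen (t.appTop (piFn τ))
  · exact Or.inl hz
  rcases hg.cov z with h2 | ⟨h2, h3⟩ | ⟨h2, h3⟩
  · exact Or.inl h2
  · refine Or.inr (Or.inl ⟨h2, ?_⟩)
    rw [add_right_comm]
    exact (mem_basicOpen_add_mul hz).2 h3
  · exact Or.inr (Or.inr ⟨h2, (mem_basicOpen_add_mul hz).2 h3⟩)

/-- Uniqueness needs only the relation. -/
theorem Good.cov_double {W : Scheme.{u}} {t : W ⟶ τ.base.left} {u w : Γ(W, ⊤)} (hg : Good τ t u w) (g : Γ(W, ⊤)) :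
    ⊤ ≤ W.basicOpen (t.appTop (piFn τ)) ⊔ W.basicOpen (2 * u + 1 + t.appTop (piFn τ) * g) := by
  intro z _
  by_cases hz : z ∈ W.basicOpen (t.appTop (piFn τ))
  · exact Or.inl hz
  refine Or.inr ?_
  have h0 : W.evaluation ⊤ z trivial (t.appTop (piFn τ)) = 0 := by
    exact evaluation_eq_zero hz
  have hr := congrArg (W.evaluation ⊤ z trivial) hg.rel
  rw [map_mul, map_mul, map_add, map_one, h0, zero_mul] at hr
  change z ∈ W.basicOpen _
  rw [mem_basicOpen_add_mul hz, mem_basicOpen_iff]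
  intro hc
  rw [map_add, map_one, map_mul, map_ofNat] at hc
  refine one_ne_zero (α := W.residueField z) ?_
  linear_combination (4 : W.residueField z) * hr + (2 * W.evaluation ⊤ z trivial u + 1) * hc

/-- Two points over the same point of the base differ by a translation. -/
theorem Good.cov_pair {W : Scheme.{u}} {t : W ⟶ τ.base.left} {u w u' w' : Γ(W, ⊤)} (hg : Good τ t u w)
    (hg' : Good τ t u' w') : ⊤ ≤ W.basicOpen (t.appTop (piFn τ)) ⊔ W.basicOpen (u' + u + 1) := by
  intro z _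
  by_cases hz : z ∈ W.basicOpen (t.appTop (piFn τ))
  · exact Or.inl hz
  refine Or.inr ?_
  have h0 : W.evaluation ⊤ z trivial (t.appTop (piFn τ)) = 0 := by
    exact evaluation_eq_zero hz
  have hside : t z ∈ sideS τ → t z ∈ sideT τ → False := fun hs ht => hz (by
    have := side_inf τ (show t z ∈ sideS τ ⊓ sideT τ from ⟨hs, ht⟩)
    have e : z ∈ t ⁻¹ᵁ τ.base.left.basicOpen (piFn τ) := this
    rwa [Scheme.preimage_basicOpen_top] at e)
  have key : ∀ {u w : Γ(W, ⊤)}, Good τ t u w →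
      (t z ∈ sideS τ ∧ W.evaluation ⊤ z trivial u = 0) ∨
        (t z ∈ sideT τ ∧ W.evaluation ⊤ z trivial u + 1 = 0) := by
    intro u w hg
    have hr := congrArg (W.evaluation ⊤ z trivial) hg.rel
    rw [map_mul, map_mul, map_add, map_one, h0, zero_mul] at hr
    rcases hg.cov z with h2 | ⟨h2, h3⟩ | ⟨h2, h3⟩
    · exact absurd h2 hz
    · rw [mem_basicOpen_iff, map_add, map_one] at h3
      exact Or.inl ⟨h2, (mul_eq_zero.1 hr.symm).resolve_right h3⟩
    · rw [mem_basicOpen_iff] at h3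
      exact Or.inr ⟨h2, (mul_eq_zero.1 hr.symm).resolve_left h3⟩
  change z ∈ W.basicOpen _
  rw [mem_basicOpen_iff, map_add, map_add, map_one]
  intro hc
  refine one_ne_zero (α := W.residueField z) ?_
  rcases key hg with ⟨hs, e⟩ | ⟨ht, e⟩ <;> rcases key hg' with ⟨hs', e'⟩ | ⟨ht', e'⟩
  · linear_combination hc - e - e'
  · exact (hside hs ht').elim
  · exact (hside hs' ht).elim
  · linear_combination e + e' - hc

variable (τ h)

theorem exists_act : ∃ a : Red.Ga S ⊗ Tot τ h ⟶ Tot τ h,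
    a ≫ totπ τ h = snd _ _ ≫ totπ τ h ∧
      uOf a = uOf (snd (Red.Ga S) (Tot τ h)) + pOf (snd (Red.Ga S) (Tot τ h)) * Red.gaFn (fst (Red.Ga S) (Tot τ h)) ∧
      wOf a = wOf (snd (Red.Ga S) (Tot τ h)) +
        Red.gaFn (fst (Red.Ga S) (Tot τ h)) * (2 * uOf (snd (Red.Ga S) (Tot τ h)) + 1) +
        pOf (snd (Red.Ga S) (Tot τ h)) * Red.gaFn (fst (Red.Ga S) (Tot τ h)) ^ 2 :=
  exists_mk _ _ _ ((good (snd (Red.Ga S) (Tot τ h))).translate _)

/-- The action map. -/
def actMap : Red.Ga S ⊗ Tot τ h ⟶ Tot τ h := (exists_act τ h).choose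

variable {τ h}

theorem act_π {W : Over S} (g : W ⟶ Red.Ga S) (q : W ⟶ Tot τ h) :
    lift g q ≫ actMap τ h ≫ totπ τ h = q ≫ totπ τ h := by
  rw [actMap, (exists_act τ h).choose_spec.1, lift_snd_assoc]

theorem act_u {W : Over S} (g : W ⟶ Red.Ga S) (q : W ⟶ Tot τ h) :
    uOf (lift g q ≫ actMap τ h) = uOf q + pOf q * Red.gaFn g := by
  rw [uOf_comp, actMap, (exists_act τ h).choose_spec.2.1, map_add, map_mul, ← uOf_comp, ← pOf_comp,
    ← Ga.gaFn_comp, lift_fst, lift_snd]

theorem act_w {W : Over S} (g : W ⟶ Red.Ga S) (q : W ⟶ Tot τ h) :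
    wOf (lift g q ≫ actMap τ h) =
      wOf q + Red.gaFn g * (2 * uOf q + 1) + pOf q * Red.gaFn g ^ 2 := by
  rw [wOf_comp, actMap, (exists_act τ h).choose_spec.2.2]
  simp only [map_add, map_mul, map_pow, map_ofNat, map_one, ← uOf_comp, ← wOf_comp, ← pOf_comp,
    ← Ga.gaFn_comp, lift_fst, lift_snd]

theorem pOf_act {W : Over S} (g : W ⟶ Red.Ga S) (q : W ⟶ Tot τ h) : pOf (lift g q ≫ actMap τ h) = pOf q := by
  rw [pOf, pOf, Category.assoc, act_π]

variable (τ h)

/-- The action. -/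
def act : AlgGrp.Action (Red.Ga S) (Tot τ h) where
  act := actMap τ h
  one_act := by
    have e : (η[Red.Ga S] ▷ Tot τ h) = lift (1 : _ ⟶ Red.Ga S) (snd (𝟙_ _) (Tot τ h)) := by
      apply CartesianMonoidalCategory.hom_ext
      · rw [whiskerRight_fst, lift_fst, toUnit_unique (fst _ _) (toUnit _), ← Hom.one_def]
      · rw [whiskerRight_snd, lift_snd]
    rw [e, leftUnitor_hom]
    refine tot_ext (by rw [Category.assoc, act_π]) ?_ ?_
    · rw [act_u, Ga.gaFn_one, mul_zero, add_zero]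
    · rw [act_w, Ga.gaFn_one]
      ring
  mul_act := by
    let G := Red.Ga S
    let W := (G ⊗ G) ⊗ Tot τ h
    let g₁ : W ⟶ G := fst _ _ ≫ fst G G
    let g₂ : W ⟶ G := fst _ _ ≫ snd G G
    let q : W ⟶ Tot τ h := snd _ _
    have e₁ : (μ[G] ▷ Tot τ h) = lift (g₁ * g₂) q := by
      apply CartesianMonoidalCategory.hom_ext
      · rw [whiskerRight_fst, lift_fst, Hom.mul_def]
        congr 1
        rw [← comp_lift, lift_fst_snd, Category.comp_id]
      · rw [whiskerRight_snd, lift_snd]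
    have e₂ : (α_ G G (Tot τ h)).hom ≫ (G ◁ actMap τ h) = lift g₁ (lift g₂ q ≫ actMap τ h) := by
      apply CartesianMonoidalCategory.hom_ext
      · simp [g₁]
      · rw [Category.assoc, whiskerLeft_snd, lift_snd, ← Category.assoc]
        congr 1
        apply CartesianMonoidalCategory.hom_ext <;> simp [g₂, q]
    change (μ[G] ▷ Tot τ h) ≫ actMap τ h = (α_ G G (Tot τ h)).hom ≫ (G ◁ actMap τ h) ≫ actMap τ h
    rw [e₁, reassoc_of% e₂]
    refine tot_ext (by simp only [Category.assoc, act_π]) ?_ ?_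
    · rw [act_u, act_u, act_u, pOf_act, Ga.gaFn_mul]
      ring
    · rw [act_w, act_w, act_w, act_u, pOf_act, Ga.gaFn_mul]
      ring

theorem cart : IsPullback (act τ h).act (snd (Red.Ga S) (Tot τ h)) (totπ τ h) (totπ τ h) := by
  have hlift : ∀ {W : Over S} (φ : W ⟶ Red.Ga S ⊗ Tot τ h),
      φ = lift (φ ≫ fst _ _) (φ ≫ snd _ _) := fun φ => by rw [← comp_lift, lift_fst_snd, Category.comp_id]
  refine IsPullback.mk' ((exists_act τ h).choose_spec.1) (fun W φ φ' ha hs => ?_) fun W a b hab => ?_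
  · have hφ := hlift φ
    have hφ' := hlift φ'
    rw [hφ, hφ', ← hs]
    refine congrArg (lift · _) (Ga.gaFn_injective ?_)
    rw [hφ, hφ', ← hs] at ha
    have hu := congrArg uOf ha
    have hw := congrArg wOf ha
    change uOf (_ ≫ actMap τ h) = uOf (_ ≫ actMap τ h) at hu
    change wOf (_ ≫ actMap τ h) = wOf (_ ≫ actMap τ h) at hw
    rw [act_u, act_u, add_right_inj] at hu
    rw [act_w, act_w] at hw
    obtain ⟨g₀, -, uniq⟩ := existsUnique_solution
      (p := pOf (φ ≫ snd (Red.Ga S) (Tot τ h)))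
      (c := 2 * uOf (φ ≫ snd (Red.Ga S) (Tot τ h)) + 1 +
        pOf (φ ≫ snd (Red.Ga S) (Tot τ h)) * Red.gaFn (φ ≫ fst (Red.Ga S) (Tot τ h)))
      (d := pOf (φ ≫ snd (Red.Ga S) (Tot τ h)) * Red.gaFn (φ ≫ fst (Red.Ga S) (Tot τ h)))
      (e := (2 * uOf (φ ≫ snd (Red.Ga S) (Tot τ h)) + 1 +
        pOf (φ ≫ snd (Red.Ga S) (Tot τ h)) * Red.gaFn (φ ≫ fst (Red.Ga S) (Tot τ h))) *
        Red.gaFn (φ ≫ fst (Red.Ga S) (Tot τ h))) (by ring) ((good (φ ≫ snd (Red.Ga S) (Tot τ h))).cov_double (Red.gaFn (φ ≫ fst (Red.Ga S) (Tot τ h))))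
    refine (uniq _ ⟨rfl, rfl⟩).trans (uniq _ ⟨hu.symm, ?_⟩).symm
    linear_combination (-1 : Γ(W.left, ⊤)) * hw +
      (Red.gaFn (φ' ≫ fst (Red.Ga S) (Tot τ h))) * hu
  · have hga := good a
    have hgb := good b
    rw [hab] at hga
    have hp : pOf a = pOf b := by rw [pOf, pOf, hab]
    obtain ⟨g, ⟨hg₁, hg₂⟩, -⟩ := existsUnique_solution (p := pOf b) (c := uOf a + uOf b + 1)
      (d := uOf a - uOf b) (e := wOf a - wOf b) (by linear_combination (rel a) - (rel b) - (wOf a) * hp)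
      (hgb.cov_pair hga)
    refine ⟨lift (Ga.gaPt g) b, tot_ext ?_ ?_ ?_, lift_snd _ _⟩
    · rw [Category.assoc]
      exact (act_π _ _).trans hab.symm
    · refine (act_u _ _).trans ?_
      rw [Ga.gaFn_gaPt]
      linear_combination hg₁
    · refine (act_w _ _).trans ?_
      rw [Ga.gaFn_gaPt]
      linear_combination hg₂ + g * hg₁

theorem loc (hτ : ThetaS.MissesNode τ) :
    NonAbH1.IsLocallyTrivialFor Scheme.fppfPrecoverage (Over.mk (totπ τ h).left : Over (baseS τ h).left) := by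
  let U : Bool → τ.base.left.Opens := fun i => cond i (sideS τ) (sideT τ)
  refine ⟨Presieve.ofArrows (fun i => (U i).toScheme) (fun i => (U i).ι), ?_, ?_⟩
  · refine (Scheme.ofArrows_mem_precoverage_iff (@Flat ⊓ @LocallyOfFinitePresentation)).2 ⟨fun x => ?_, fun i => ⟨inferInstance, inferInstance⟩⟩
    have hx : x ∈ sideS τ ⊔ sideT τ := by rw [side_sup τ hτ]; trivial
    rcases hx with hx | hx
    · exact ⟨true, by rw [Scheme.Opens.range_ι]; exact hx⟩
    · exact ⟨false, by rw [Scheme.Opens.range_ι]; exact hx⟩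
  · rintro _ _ ⟨i⟩
    let W : Over S := Over.mk ((U i).ι ≫ τ.base.hom ≫ h)
    let t : W ⟶ baseS τ h := Over.homMk (U i).ι
    have ht : Good τ t.left (cond i 0 (-1)) 0 := by
      refine ⟨by cases i <;> simp, fun z => ?_⟩
      cases i
      · exact Or.inr (Or.inr ⟨z.2, by
          change z ∈ W.left.basicOpen (-1)
          rw [Scheme.basicOpen_of_isUnit W.left isUnit_one.neg]; trivial⟩)
      · exact Or.inr (Or.inl ⟨z.2, by
          change z ∈ W.left.basicOpen (0 + 1)
          rw [zero_add, Scheme.basicOpen_of_isUnit W.left isUnit_one]; trivial⟩)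
    obtain ⟨q, hq, -, -⟩ := exists_mk t _ _ ht
    exact ⟨q.left, congrArg CommaMorphism.left hq⟩

/-- The torsor as an object of the classifying stack. -/
def obj (τ : (ThetaS.stPunc Scheme.fppfPrecoverage R π h).obj) :
    AlgSt.QuotObj Scheme.fppfPrecoverage (Red.Ga S) (AlgSt.trivAction (Red.Ga S)) where
  base := baseS τ.obj h
  P := Tot τ.obj h
  act := act τ.obj h
  π := totπ τ.obj h
  cart := cart τ.obj h
  loc := loc τ.obj h τ.property
  φ := toUnit _
  eqv := toUnit_unique _ _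

theorem good_hom {τ τ' : STObj R π} (m : τ' ⟶ τ) {W : Scheme.{u}} {t : W ⟶ τ'.base.left} {u w : Γ(W, ⊤)}
    (hg : Good τ' t u w) : Good τ (t ≫ m.base.left) u w := by
  have e : (t ≫ m.base.left).appTop (piFn τ) = t.appTop (piFn τ') := by
    rw [piFn_hom m, Scheme.Hom.comp_appTop]
    rfl
  refine ⟨e ▸ hg.rel, fun z => ?_⟩
  rw [e, Scheme.Hom.comp_apply]
  have h2 := hg.cov z
  rw [sideS_hom m, sideT_hom m] at h2
  exact h2

theorem good_hom' {τ τ' : STObj R π} (m : τ' ⟶ τ) {W : Scheme.{u}} {t : W ⟶ τ'.base.left} {u w : Γ(W, ⊤)}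
    (hg : Good τ (t ≫ m.base.left) u w) : Good τ' t u w := by
  have e : (t ≫ m.base.left).appTop (piFn τ) = t.appTop (piFn τ') := by
    rw [piFn_hom m, Scheme.Hom.comp_appTop]
    rfl
  refine ⟨e ▸ hg.rel, fun z => ?_⟩
  have h2 := hg.cov z
  rw [e, Scheme.Hom.comp_apply] at h2
  rw [sideS_hom m, sideT_hom m]
  exact h2

theorem exists_top {τ τ' : STObj R π} (m : τ' ⟶ τ) : ∃ f : Tot τ' h ⟶ Tot τ h,
    f ≫ totπ τ h = totπ τ' h ≫ (Over.map h).map m.base ∧
      uOf f = uOf (𝟙 (Tot τ' h)) ∧ wOf f = wOf (𝟙 (Tot τ' h)) :=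
  exists_mk _ _ _ (good_hom m (by simpa using good (𝟙 (Tot τ' h))))

/-- The map of total spaces. -/
def topMap {τ τ' : STObj R π} (m : τ' ⟶ τ) : Tot τ' h ⟶ Tot τ h := (exists_top h m).choose

variable {h}

theorem topMap_π {τ τ' : STObj R π} (m : τ' ⟶ τ) {W : Over S} (q : W ⟶ Tot τ' h) :
    (q ≫ topMap h m) ≫ totπ τ h = (q ≫ totπ τ' h) ≫ (Over.map h).map m.base := by
  simp only [topMap, Category.assoc, (exists_top h m).choose_spec.1]

theorem topMap_u {τ τ' : STObj R π} (m : τ' ⟶ τ) {W : Over S} (q : W ⟶ Tot τ' h) :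
    uOf (q ≫ topMap h m) = uOf q := by
  rw [uOf_comp, topMap, (exists_top h m).choose_spec.2.1, ← uOf_comp, Category.comp_id]

theorem topMap_w {τ τ' : STObj R π} (m : τ' ⟶ τ) {W : Over S} (q : W ⟶ Tot τ' h) :
    wOf (q ≫ topMap h m) = wOf q := by
  rw [wOf_comp, topMap, (exists_top h m).choose_spec.2.2, ← wOf_comp, Category.comp_id]

theorem topMap_p {τ τ' : STObj R π} (m : τ' ⟶ τ) {W : Over S} (q : W ⟶ Tot τ' h) :
    pOf (q ≫ topMap h m) = pOf q := by
  rw [pOf, pOf, topMap_π, piFn_hom m]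
  simp

variable (h)

/-- The functor to the classifying stack. -/
def functor : ThetaS.stPunc Scheme.fppfPrecoverage R π h ⥤ᵇ AlgSt.BG Scheme.fppfPrecoverage (Red.Ga S) where
  toFunctor :=
    { obj := obj h
      map := fun {τ' τ} m =>
        { base := (Over.map h).map m.hom.base
          top := topMap h m.hom
          eqv := by
            change actMap τ'.obj h ≫ topMap h m.hom = (Red.Ga S ◁ topMap h m.hom) ≫ actMap τ.obj h
            have e : (Red.Ga S ◁ topMap h m.hom) =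
                lift (fst (Red.Ga S) (Tot τ'.obj h)) (snd (Red.Ga S) (Tot τ'.obj h) ≫ topMap h m.hom) := by
              apply CartesianMonoidalCategory.hom_ext <;> simp
            have e' : actMap τ'.obj h =
                lift (fst (Red.Ga S) (Tot τ'.obj h)) (snd (Red.Ga S) (Tot τ'.obj h)) ≫ actMap τ'.obj h := by simp
            rw [e, e']
            refine tot_ext ?_ ?_ ?_
            · rw [topMap_π, Category.assoc (lift _ _), act_π, Category.assoc (lift _ _), act_π, topMap_π]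
            · rw [topMap_u, act_u, act_u, topMap_u, topMap_p]
            · rw [topMap_w, act_w, act_w, topMap_u, topMap_p, topMap_w]
          cart := by
            change IsPullback (topMap h m.hom) (totπ τ'.obj h) (totπ τ.obj h) ((Over.map h).map m.hom.base)
            refine IsPullback.mk' (by simpa using topMap_π m.hom (𝟙 (Tot τ'.obj h)))
              (fun W φ φ' h₁ h₂ => tot_ext h₂
                (by rw [← topMap_u m.hom φ, h₁, topMap_u])
                (by rw [← topMap_w m.hom φ, h₁, topMap_w])) fun W a b hab => ?_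
            have hg := good a
            rw [hab] at hg
            obtain ⟨q, hq, hu, hw⟩ := exists_mk b _ _ (good_hom' m.hom (t := b.left) (by simpa using hg))
            exact ⟨q, tot_ext (by rw [topMap_π, hq, hab]) (by rw [topMap_u, hu]) (by rw [topMap_w, hw]), hq⟩
          wφ := toUnit_unique _ _ }
      map_id := fun τ => AlgSt.QuotObj.hom_ext ((Over.map h).map_id _) (by
        change topMap h (𝟙 τ.obj) = 𝟙 _
        rw [← Category.id_comp (topMap h (𝟙 τ.obj))]
        refine tot_ext ?_ (topMap_u _ _) (topMap_w _ _)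
        rw [topMap_π]
        change _ ≫ (Over.map h).map (𝟙 τ.obj.base) = _
        rw [CategoryTheory.Functor.map_id]
        exact Category.comp_id _)
      map_comp := fun {τ₁ τ₂ τ₃} f g => AlgSt.QuotObj.hom_ext ((Over.map h).map_comp _ _) (by
        change topMap h (f.hom ≫ g.hom) = topMap h f.hom ≫ topMap h g.hom
        rw [← Category.id_comp (topMap h (f.hom ≫ g.hom)), ← Category.id_comp (topMap h f.hom ≫ _),
          ← Category.assoc _ (topMap h f.hom)]
        refine tot_ext ?_ (by simp only [topMap_u]) (by simp only [topMap_w])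
        rw [topMap_π, topMap_π, topMap_π, AlgSt.QuotObj.comp_base, CategoryTheory.Functor.map_comp]
        simp only [Category.assoc]) }
  w := rfl

end Groth.Agent.H14.BGa
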